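import Cfsg.Agent.H738.GTrick

/-!
# Odd transpositions: noncommuting pairs have a common neighbour (modulo the rank one theorem)

`exists_common`: `D` a class of odd transpositions of the finite group `G`, commuting graph
connected, containing a line.  For all `d, x ∈ D` some member of `D` commutes with both.  The
hypothesis `hR` is the rank one theorem (consequence of S5044).
-/

set_option autoImplicit false

universe u

namespace Cfsg.Agent.H738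

open Cfsg.Agent.H737

/-- The consequence of the rank one theorem used here. -/
def RankOneR1 : Prop :=
  ∀ (K : Type u) [Group K] [Finite K] (D : Set K) (d x a : K), Gen D d x → a ∈ Cls D d → a ≠ d → R1 K

variable {G : Type u} [Group G] [Finite G] {D : Set G}

/-- A pair `d, x` without common neighbour, `f` commuting with `x`, not with `d`, and `w` commuting
with `f` and `d`, is impossible. -/
theorem common_core (hR : RankOneR1.{u}) (hD : OT D) (hconj : ∀ y ∈ D, ∀ g : G, g * y * g⁻¹ ∈ D)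
    (hcl : ∀ y ∈ D, ∀ z ∈ D, ∃ g : G, g * y * g⁻¹ = z)
    (hline : ∀ y ∈ D, ∃ a ∈ D, Commute a y ∧ a * y ∈ D)
    {d x f w : G} (hd : d ∈ D) (hx : x ∈ D) (hf : f ∈ D) (hw : w ∈ D)
    (hno : ∀ e ∈ D, Commute e d → ¬ Commute e x)
    (hfx : Commute f x) (hwf : Commute w f) (hwd : Commute w d) : False := by
  have hxd : ¬ Commute d x := fun h => hno d hd (Commute.refl d) h
  have hfd : ¬ Commute d f := fun h => hno f hf h.symm hfx
  obtain ⟨a, ha, hax, haxD⟩ := hline x hx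
  obtain ⟨b, hb, hbf, hbfD⟩ := hline f hf
  -- `Y = ⟨E_x, E_f, d⟩`
  set Y : Subgroup G := Subgroup.closure (Cls D x ∪ Cls D f ∪ {d}) with hY
  have hxY : x ∈ Y := Subgroup.subset_closure (Or.inl (Or.inl ⟨hx, Eqv.refl _ _⟩))
  have hfY : f ∈ Y := Subgroup.subset_closure (Or.inl (Or.inr ⟨hf, Eqv.refl _ _⟩))
  have hdY : d ∈ Y := Subgroup.subset_closure (Or.inr rfl)
  obtain ⟨hg, heqv, a', ha', hne⟩ := gen_red2 hD hx hf hfx.symm hd hxd hfd ha hax haxD hY.symm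
    hxY hfY hdY
  have hK : R1 (↥Y ⧸ pCore 2 ↥Y) := hR _ _ _ _ _ hg ha' hne
  have hS := sub_ot hD Y
  have hker := red_ker2 Y
  have hom := im_ot (red Y) hS
  -- the subgroups `⟨E_x, d⟩` and `⟨E_f, d⟩` of `Y / O₂(Y)`
  have main : ∀ (y : G) (hyY : y ∈ Y), y ∈ D → ¬ Commute d y → (∀ e ∈ Cls D y, e ∈ Y) →
      ∃ K₁ : Subgroup (↥Y ⧸ pCore 2 ↥Y), R1 ↥K₁ ∧ red Y ⟨d, hdY⟩ ∈ K₁ ∧ red Y ⟨y, hyY⟩ ∈ K₁ ∧
        ∀ i ∈ K₁, i * i = 1 → i ≠ 1 → Commute i (red Y ⟨y, hyY⟩) →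
          ∃ c, ∃ hcY : c ∈ Y, c ∈ Cls D y ∧ red Y ⟨c, hcY⟩ = i := by
    intro y hyY hy hyd hsub
    set X : Subgroup G := Subgroup.closure (Cls D y ∪ {d}) with hX
    have hXY : X ≤ Y := by
      rw [hX, Subgroup.closure_le]
      rintro z (hz | hz)
      · exact hsub z hz
      · rw [Set.mem_singleton_iff.1 hz]; exact hdY
    have hdX : d ∈ X := Subgroup.subset_closure (Or.inr rfl)
    have hyX : y ∈ X := Subgroup.subset_closure (Or.inl ⟨hy, Eqv.refl _ _⟩)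
    -- the image of `X`
    set ι : ↥X →* (↥Y ⧸ pCore 2 ↥Y) := (red Y).comp (Subgroup.inclusion hXY) with hι
    set f₁ : ↥X →* ↥ι.range := ι.rangeRestrict with hf₁
    have hf₁s : Function.Surjective f₁ := MonoidHom.rangeRestrict_surjective ι
    have hval : ∀ z : ↥X, ((f₁ z : ↥ι.range) : ↥Y ⧸ pCore 2 ↥Y) = red Y ⟨z, hXY z.2⟩ := fun z => rfl
    have hker₁ : Ker2 f₁ := by
      intro z hz
      have h1 : red Y ⟨z, hXY z.2⟩ = 1 := by rw [← hval, hz]; rfl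
      obtain ⟨k, hk⟩ := hker _ h1
      refine ⟨k, Subtype.ext ?_⟩
      have := congrArg Subtype.val hk
      simpa using this
    have hSX := sub_ot hD X
    have hncX : ¬ Commute (⟨d, hdX⟩ : ↥X) ⟨y, hyX⟩ := fun h => hyd (commute_coe.2 h)
    have hyK : ¬ Commute (red Y ⟨d, hdY⟩) (red Y ⟨y, hyY⟩) := by
      rw [hker.commute_iff hS hd hy]
      exact fun h => hyd (commute_coe.2 h)
    have hsqd : red Y ⟨d, hdY⟩ * red Y ⟨d, hdY⟩ = 1 := by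
      rw [← map_mul, show (⟨d, hdY⟩ : ↥Y) * ⟨d, hdY⟩ = 1 from Subtype.ext (hD.sq d hd), map_one]
    have hsqy : red Y ⟨y, hyY⟩ * red Y ⟨y, hyY⟩ = 1 := by
      rw [← map_mul, show (⟨y, hyY⟩ : ↥Y) * ⟨y, hyY⟩ = 1 from Subtype.ext (hD.sq y hy), map_one]
    have hgen₁ : Gen (Im f₁ (Sub D X)) (f₁ ⟨y, hyX⟩) (f₁ ⟨d, hdX⟩) := by
      refine ⟨im_ot _ hSX, hker₁.map_mem hSX hy hd hncX,
        hker₁.map_mem hSX hd hy (fun h => hncX h.symm), ?_, ?_, ?_⟩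
      · rw [hker₁.commute_iff hSX hd hy]; exact hncX
      · refine closure_image hf₁s
          (closure_sub (T := Cls (Sub D X) ⟨y, hyX⟩ ∪ {⟨d, hdX⟩}) hX.symm ?_) ?_
        · rintro ⟨z, hzX⟩ (hz | hz)
          · exact Or.inl (cls_sub_of hz)
          · right
            rw [Set.mem_singleton_iff] at hz ⊢
            exact Subtype.ext hz
        · rintro z (hz | hz)
          · exact Or.inl (hker₁.cls_map hSX hy hz hd hncX)
          · right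
            rw [Set.mem_singleton_iff] at hz ⊢
            rw [hz]
      · intro N hN hP
        exact hK.o2 hsqy hsqd (hval ⟨y, hyX⟩ ▸ (f₁ ⟨y, hyX⟩).2) (hval ⟨d, hdX⟩ ▸ (f₁ ⟨d, hdX⟩).2)
          hyK N hN hP
    -- a second member of the class of `y`
    obtain ⟨a, ha, hay, hayD⟩ := hline y hy
    have haC : a ∈ Cls D y := ⟨ha, hD.line_eqv hy ha hay.symm (by rw [← hay.eq]; exact hayD)⟩
    have haX : a ∈ X := Subgroup.subset_closure (Or.inl haC)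
    have haC' : (⟨a, haX⟩ : ↥X) ∈ Cls (Sub D X) ⟨y, hyX⟩ := cls_sub_of haC
    have hayne : f₁ ⟨a, haX⟩ ≠ f₁ ⟨y, hyX⟩ := by
      intro h1
      have h2 : f₁ (⟨a, haX⟩ * ⟨y, hyX⟩) = 1 := by
        rw [map_mul, h1, ← map_mul, show (⟨y, hyX⟩ : ↥X) * ⟨y, hyX⟩ = 1 from
          Subtype.ext (hD.sq y hy), map_one]
      have h3 : ¬ Commute (⟨d, hdX⟩ : ↥X) (⟨a, haX⟩ * ⟨y, hyX⟩) := by
        intro h4
        apply hyd
        exact ((haC.2.trans (hD.line_eqv_mul ha hy hay hayD)) d hd).2 (commute_coe.2 h4)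
      exact (hker₁.map_mem hSX (show (⟨a, haX⟩ : ↥X) * ⟨y, hyX⟩ ∈ Sub D X from hayD)
        (show (⟨d, hdX⟩ : ↥X) ∈ Sub D X from hd) h3).1 h2
    have hR₁ : R1 ↥ι.range := hR _ _ _ _ _ hgen₁ (hker₁.cls_map hSX hy haC' hd hncX) hayne
    refine ⟨ι.range, hR₁, (f₁ ⟨d, hdX⟩).2, (f₁ ⟨y, hyX⟩).2, ?_⟩
    intro i hi hii hi1 hiy
    -- `i` is conjugate to the image of `y`
    have hsq₁ : f₁ ⟨y, hyX⟩ * f₁ ⟨y, hyX⟩ = 1 := Subtype.ext hsqy
    obtain ⟨g, hg⟩ := hR₁.conj (f₁ ⟨y, hyX⟩) ⟨i, hi⟩ hsq₁ (hgen₁.ot.ne _ hgen₁.hd)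
      (Subtype.ext hii) (fun h => hi1 (congrArg Subtype.val h))
    have hiD : (⟨i, hi⟩ : ↥ι.range) ∈ Im f₁ (Sub D X) := by
      rw [← hg]; exact hgen₁.conj_mem hgen₁.hd g
    have hzD : g * f₁ ⟨d, hdX⟩ * g⁻¹ ∈ Im f₁ (Sub D X) := hgen₁.conj_mem hgen₁.hx g
    obtain ⟨-, c, hc, hci⟩ := hiD
    obtain ⟨-, z, hz, hzi⟩ := hzD
    have hcy : Commute (c : G) y := by
      have h1 : Commute (f₁ c) (f₁ ⟨y, hyX⟩) := by
        rw [hci]; exact Subtype.ext hiy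
      exact commute_coe.2 ((hker₁.commute_iff hSX hc hy).1 h1)
    have hzc : ¬ Commute (z : G) c := by
      intro h1
      have h2 : Commute (f₁ z) (f₁ c) := (commute_coe.1 h1).map f₁
      rw [hzi, hci, ← hg] at h2
      apply hgen₁.nc
      have h3 : (g * f₁ ⟨d, hdX⟩ * g⁻¹) * (g * f₁ ⟨y, hyX⟩ * g⁻¹) =
        (g * f₁ ⟨y, hyX⟩ * g⁻¹) * (g * f₁ ⟨d, hdX⟩ * g⁻¹) := h2
      show f₁ ⟨d, hdX⟩ * f₁ ⟨y, hyX⟩ = f₁ ⟨y, hyX⟩ * f₁ ⟨d, hdX⟩
      calc f₁ ⟨d, hdX⟩ * f₁ ⟨y, hyX⟩ =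
            g⁻¹ * ((g * f₁ ⟨d, hdX⟩ * g⁻¹) * (g * f₁ ⟨y, hyX⟩ * g⁻¹)) * g := by group
        _ = g⁻¹ * ((g * f₁ ⟨y, hyX⟩ * g⁻¹) * (g * f₁ ⟨d, hdX⟩ * g⁻¹)) * g := by rw [h3]
        _ = _ := by group
    refine ⟨c, hXY c.2, ?_, ?_⟩
    · refine mem_cls_of_commute hD hconj hy hd hyd ha hay hayD ?_ hc c.2 hcy ⟨z, hz, z.2, hzc⟩
      exact hcl y hy c hc
    · have := congrArg Subtype.val hci
      exact this
  obtain ⟨K₁, hR₁, hd₁, hx₁, hm₁⟩ := main x hxY hx hxd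
    (fun e he => Subgroup.subset_closure (Or.inl (Or.inl he)))
  obtain ⟨K₂, hR₂, hd₂, hf₂, hm₂⟩ := main f hfY hf hfd
    (fun e he => Subgroup.subset_closure (Or.inl (Or.inr he)))
  have hsq : ∀ y (hyY : y ∈ Y), y ∈ D → red Y ⟨y, hyY⟩ * red Y ⟨y, hyY⟩ = 1 := by
    intro y hyY hy
    rw [← map_mul, show (⟨y, hyY⟩ : ↥Y) * ⟨y, hyY⟩ = 1 from Subtype.ext (hD.sq y hy), map_one]
  have hnc : ∀ y (hyY : y ∈ Y), y ∈ D → ¬ Commute d y →
      ¬ Commute (red Y ⟨d, hdY⟩) (red Y ⟨y, hyY⟩) := by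
    intro y hyY hy h
    rw [hker.commute_iff hS hd hy]
    exact fun h' => h (commute_coe.2 h')
  have hne1 : ∀ y (hyY : y ∈ Y), y ∈ D → ¬ Commute d y → red Y ⟨y, hyY⟩ ≠ 1 := by
    intro y hyY hy h h1
    apply hnc y hyY hy h
    rw [h1]; exact Commute.one_right _
  have hd1 : red Y ⟨d, hdY⟩ ≠ 1 := by
    intro h1
    apply hnc x hxY hx hxd
    rw [h1]; exact Commute.one_left _
  obtain ⟨i, hi₁, hi₂, hii, hi1, hix, hif⟩ := hK.common_involution hR₁ hR₂ (hsq d hdY hd) hd1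
    (hsq x hxY hx) (hne1 x hxY hx hxd) (hsq f hfY hf) (hne1 f hfY hf hfd)
    ((commute_coe.1 hfx.symm : Commute (⟨x, hxY⟩ : ↥Y) ⟨f, hfY⟩).map _)
    (hnc x hxY hx hxd) (hnc f hfY hf hfd) hd₁ hd₂ hx₁ hf₂
  obtain ⟨c, hcY, hc, hci⟩ := hm₁ i hi₁ hii hi1 hix
  obtain ⟨e, heY, he, hei⟩ := hm₂ i hi₂ hii hi1 hif
  -- `e` and `c` are conjugate under `C(d)`
  have hconjY : ∀ y ∈ Sub D Y, ∀ g : ↥Y, g * y * g⁻¹ ∈ Sub D Y := fun y hy g => hconj _ hy _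
  have hec : (⟨e, heY⟩ : ↥Y) * ⟨c, hcY⟩ ∈ pCore 2 ↥Y := by
    have h1 : red Y (⟨e, heY⟩ * ⟨c, hcY⟩) = 1 := by
      rw [map_mul, hei, hci, hii]
    exact (QuotientGroup.eq_one_iff _).1 h1
  have hde : ¬ Commute (⟨d, hdY⟩ : ↥Y) ⟨e, heY⟩ := by
    intro h1
    exact hfd ((he.2 d hd).2 (commute_coe.2 h1))
  have hn2 : (pCore 2 ↥Y).Normal := Lib.Cores.pCore_normal 2
  obtain ⟨p, hpd, hpc⟩ := exists_conj_fibre hS hconjY (Lib.Cores.pCore_isPGroup 2)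
    (show (⟨d, hdY⟩ : ↥Y) ∈ Sub D Y from hd) (show (⟨e, heY⟩ : ↥Y) ∈ Sub D Y from he.1)
    (show (⟨c, hcY⟩ : ↥Y) ∈ Sub D Y from hc.1) hde hec
  have hpd' : (p : G) * d = d * p := congrArg Subtype.val hpd
  have hpc' : (p : G) * e * (p : G)⁻¹ = c := congrArg Subtype.val hpc
  have hwe : Commute w e := (he.2 w hw).1 hwf
  have hw'd : Commute ((p : G) * w * (p : G)⁻¹) d := by
    show (p : G) * w * (p : G)⁻¹ * d = d * ((p : G) * w * (p : G)⁻¹)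
    have h1 : (p : G)⁻¹ * d = d * (p : G)⁻¹ := by
      calc (p : G)⁻¹ * d = (p : G)⁻¹ * (d * p) * (p : G)⁻¹ := by group
        _ = (p : G)⁻¹ * (p * d) * (p : G)⁻¹ := by rw [hpd']
        _ = d * (p : G)⁻¹ := by group
    calc (p : G) * w * (p : G)⁻¹ * d = (p : G) * w * ((p : G)⁻¹ * d) := by group
      _ = (p : G) * (w * d) * (p : G)⁻¹ := by rw [h1]; group
      _ = (p : G) * (d * w) * (p : G)⁻¹ := by rw [hwd.eq]
      _ = ((p : G) * d) * w * (p : G)⁻¹ := by group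
      _ = d * ((p : G) * w * (p : G)⁻¹) := by rw [hpd']; group
  have hw'c : Commute ((p : G) * w * (p : G)⁻¹) c := by
    rw [← hpc']
    show (p : G) * w * (p : G)⁻¹ * (p * e * (p : G)⁻¹) = p * e * (p : G)⁻¹ * (p * w * (p : G)⁻¹)
    calc (p : G) * w * (p : G)⁻¹ * (p * e * (p : G)⁻¹) = p * (w * e) * (p : G)⁻¹ := by group
      _ = p * (e * w) * (p : G)⁻¹ := by rw [hwe.eq]
      _ = _ := by group
  have hw'D : (p : G) * w * (p : G)⁻¹ ∈ D := hconj w hw p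
  exact hno _ hw'D hw'd ((hc.2 _ hw'D).2 hw'c)

/-- **Noncommuting members have a common neighbour** if the commuting graph is connected. -/
theorem exists_common (hR : RankOneR1.{u}) (hD : OT D) (hconj : ∀ y ∈ D, ∀ g : G, g * y * g⁻¹ ∈ D)
    (hcl : ∀ y ∈ D, ∀ z ∈ D, ∃ g : G, g * y * g⁻¹ = z)
    (hline : ∀ y ∈ D, ∃ a ∈ D, Commute a y ∧ a * y ∈ D)
    (hc : IsConnectedSet (CommAdj D) D) {d x : G} (hd : d ∈ D) (hx : x ∈ D) :
    ∃ e ∈ D, Commute e d ∧ Commute e x := by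
  have h1 := hc d hd x hx
  clear hx
  induction h1 with
  | refl => exact ⟨d, hd, Commute.refl d, Commute.refl d⟩
  | tail h2 h3 ih =>
    rename_i f y
    obtain ⟨hf, hy, -, hfy⟩ := h3
    obtain ⟨w, hw, hwd, hwf⟩ := ih
    by_contra hcon
    push Not at hcon
    exact common_core hR hD hconj hcl hline hd hy hf hw hcon hfy hwf hwd

/-- A set of odd transpositions is `OT`. -/
theorem ot_of (h : IsOddTranspositionSet D) : OT D where
  sq := fun a ha => sq_of_mem h.1 ha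
  ne := fun a ha => ne_one_of_mem h.1 ha
  conj := fun a ha b hb => conj_mem' h.1 ha hb
  pair := by
    intro a ha b hb
    rcases h.1.pair a ha b hb with h1 | h1 | h1
    · exact Or.inl h1
    · exact Or.inr h1
    · exact absurd h1.1 (h.2 a ha b hb)

theorem line_of (hcl : IsRootInvolutionClass D) (hDD : (D ∩ commutingProducts D).Nonempty) :
    ∀ y ∈ D, ∃ a ∈ D, Commute a y ∧ a * y ∈ D := by
  intro y hy
  obtain ⟨z, hz, a, ha, b, hb, hab, -, rfl⟩ := hDD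
  obtain ⟨g, rfl⟩ := hcl.2.2 b hb y hy
  refine ⟨g * a * g⁻¹, hcl.1.conj_mem a ha g, ?_, ?_⟩
  · show g * a * g⁻¹ * (g * b * g⁻¹) = g * b * g⁻¹ * (g * a * g⁻¹)
    calc g * a * g⁻¹ * (g * b * g⁻¹) = g * (a * b) * g⁻¹ := by group
      _ = g * (b * a) * g⁻¹ := by rw [hab]
      _ = _ := by group
  · have : g * a * g⁻¹ * (g * b * g⁻¹) = g * (a * b) * g⁻¹ := by group
    rw [this]
    exact hcl.1.conj_mem _ hz g

/-- S5050 modulo the rank one theorem. -/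
theorem s5050 (hR : RankOneR1.{u}) (hD : IsOddTranspositionSet D) (hcl : IsRootInvolutionClass D)
    (hc : IsConnectedSet (CommAdj D) D) (hDD : (D ∩ commutingProducts D).Nonempty)
    {d x : G} (hd : d ∈ D) (hx : x ∈ oddPartners D d) : ∃ e ∈ D, e * d = d * e ∧ e * x = x * e := by
  obtain ⟨e, he, h1, h2⟩ := exists_common hR (ot_of hD) hD.1.conj_mem
    (fun y hy z hz => by
      obtain ⟨g, hg⟩ := hcl.2.2 y hy z hz
      exact ⟨g, hg.symm⟩) (line_of hcl hDD) hc hd hx.1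
  exact ⟨e, he, h1, h2⟩

end Cfsg.Agent.H738
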