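import Cfsg.Agent.H738.OddTrans

/-!
# Odd transpositions: the group generated by an equivalence class and an odd partner

Let `D` be a set of odd transpositions of the finite group `G`, `d ∈ D`, `E` the set of members
commuting with the same members as `d`, `x ∈ D` not commuting with `d`, `G = ⟨E, x⟩`, and suppose
that `G` has no nontrivial normal 2-subgroup.

* `mul_mem`: `ab ∈ D` for different `a, b ∈ E` (so that `E ∪ {1}` is a subgroup).
* `eqv_of_commute`: if `E ≠ {d}`, then every member commuting with `d` lies in `E`.
-/

set_option autoImplicit false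

namespace Cfsg.Agent.H738

open Cfsg.Agent.H737

variable {G : Type*} [Group G]

/-- The members of `D` commuting with the same members as `d`. -/
def Cls (D : Set G) (d : G) : Set G := {e | e ∈ D ∧ Eqv D d e}

/-- An involution mapping the generators of a subgroup into it normalizes it. -/
theorem mem_normalizer_of_invol {S : Set G} {g : G} (hg : g * g = 1)
    (h : ∀ n ∈ S, g * n * g ∈ Subgroup.closure S) :
    g ∈ Subgroup.normalizer ((Subgroup.closure S : Subgroup G) : Set G) := by
  have hginv : g⁻¹ = g := inv_of_sq hg
  have hfor : ∀ n ∈ Subgroup.closure S, g * n * g⁻¹ ∈ Subgroup.closure S := by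
    intro n hn
    induction hn using Subgroup.closure_induction with
    | mem n hn => rw [hginv]; exact h n hn
    | one => simp
    | mul a b _ _ ha hb =>
      have := mul_mem ha hb
      simpa [mul_assoc] using this
    | inv a _ ha =>
      have := inv_mem ha
      simpa [mul_assoc] using this
  rw [Subgroup.mem_normalizer_iff]
  intro n
  refine ⟨hfor n, fun hn => ?_⟩
  have h1 := hfor _ hn
  have e : g * (g * n * g⁻¹) * g⁻¹ = n := by
    rw [hginv]; exact conj_conj_of_sq hg
  rwa [e] at h1

/-- A subgroup generated by pairwise commuting involutions is a 2-group. -/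
theorem isPGroup_of_commuting {S : Set G} (h1 : ∀ s ∈ S, s * s = 1)
    (h2 : ∀ s ∈ S, ∀ t ∈ S, Commute s t) : IsPGroup 2 (Subgroup.closure S : Subgroup G) := by
  have hcomm : ∀ x ∈ Subgroup.closure S, ∀ y ∈ Subgroup.closure S, Commute x y := by
    intro x hx y hy
    have h3 : ∀ n ∈ S, Commute n y := by
      intro n hn
      induction hy using Subgroup.closure_induction with
      | mem y hy => exact h2 n hn y hy
      | one => exact Commute.one_right _
      | mul a b _ _ ha hb => exact ha.mul_right hb
      | inv a _ ha => exact ha.inv_right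
    induction hx using Subgroup.closure_induction with
    | mem x hx => exact h3 x hx
    | one => exact Commute.one_left _
    | mul a b _ _ ha hb => exact ha.mul_left hb
    | inv a _ ha => exact ha.inv_left
  rintro ⟨x, hx⟩
  refine ⟨1, Subtype.ext ?_⟩
  have h4 : x * x = 1 := by
    induction hx using Subgroup.closure_induction with
    | mem x hx => exact h1 x hx
    | one => simp
    | mul a b ha hb iha ihb =>
      have := (hcomm a ha b hb).eq
      calc a * b * (a * b) = a * (b * a) * b := by group
        _ = a * (a * b) * b := by rw [← this]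
        _ = (a * a) * (b * b) := by group
        _ = 1 := by rw [iha, ihb, one_mul]
    | inv a ha iha =>
      rw [inv_of_sq iha]; exact iha
  simpa [pow_two] using h4

/-- The hypothesis of this file. -/
structure Gen (D : Set G) (d x : G) : Prop where
  ot : OT D
  hd : d ∈ D
  hx : x ∈ D
  nc : ¬ Commute x d
  gen : Subgroup.closure (Cls D d ∪ {x}) = ⊤
  o2 : ∀ N : Subgroup G, N.Normal → IsPGroup 2 N → N = ⊥

namespace Gen

variable {D : Set G} {d x : G}

theorem commute (h : Gen D d x) {a b : G} (ha : a ∈ Cls D d) (hb : b ∈ Cls D d) : Commute a b := by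
  have h1 : Commute d a := (ha.2 d h.hd).1 (Commute.refl d)
  exact ((hb.2 a ha.1).1 h1.symm)

theorem commute_of (h : Gen D d x) {y a : G} (hy : y ∈ D) (hyd : Commute y d)
    (ha : a ∈ Cls D d) : Commute y a := (ha.2 y hy).1 hyd

theorem nc_cls (h : Gen D d x) {a : G} (ha : a ∈ Cls D d) : ¬ Commute x a :=
  fun h1 => h.nc ((ha.2 x h.hx).2 h1)

theorem cls_sub (_h : Gen D d x) : Cls D d ⊆ D := fun _ ha => ha.1

theorem gen_top (h : Gen D d x) : Subgroup.closure D = ⊤ := by
  rw [eq_top_iff, ← h.gen, Subgroup.closure_le]
  rintro y (hy | hy)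
  · exact Subgroup.subset_closure hy.1
  · rw [Set.mem_singleton_iff.1 hy]
    exact Subgroup.subset_closure h.hx

/-- An involution centralizing `E` and `x` is trivial. -/
theorem eq_one_of_central (h : Gen D d x) {j : G} (hj : j * j = 1)
    (h1 : ∀ e ∈ Cls D d, Commute j e) (h2 : Commute j x) : j = 1 := by
  have hc : ∀ g : G, Commute j g := by
    intro g
    have hg : g ∈ Subgroup.closure (Cls D d ∪ {x}) := by rw [h.gen]; exact Subgroup.mem_top g
    induction hg using Subgroup.closure_induction with
    | mem y hy =>
      rcases hy with hy | hy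
      · exact h1 y hy
      · rw [Set.mem_singleton_iff.1 hy]; exact h2
    | one => exact Commute.one_right _
    | mul a b _ _ ha hb => exact ha.mul_right hb
    | inv a _ ha => exact ha.inv_right
  have hn : (Subgroup.closure {j} : Subgroup G).Normal := by
    constructor
    intro n hn g
    have : g * n * g⁻¹ = n := by
      have h3 : Commute n g := by
        induction hn using Subgroup.closure_induction with
        | mem y hy => rw [Set.mem_singleton_iff.1 hy]; exact hc g
        | one => exact Commute.one_left _
        | mul a b _ _ ha hb => exact ha.mul_left hb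
        | inv a _ ha => exact ha.inv_left
      rw [← h3.eq]; group
    rwa [this]
  have hp : IsPGroup 2 (Subgroup.closure {j} : Subgroup G) := by
    apply isPGroup_of_commuting
    · intro s hs; rw [Set.mem_singleton_iff.1 hs]; exact hj
    · intro s hs t ht
      rw [Set.mem_singleton_iff.1 hs, Set.mem_singleton_iff.1 ht]
  have h3 := h.o2 _ hn hp
  have h4 : j ∈ Subgroup.closure {j} := Subgroup.subset_closure rfl
  rw [h3] at h4
  exact Subgroup.mem_bot.1 h4

theorem conj_mem (h : Gen D d x) {a : G} (ha : a ∈ D) (g : G) : g * a * g⁻¹ ∈ D := by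
  refine h.ot.conj_closure ?_ ha
  rw [h.gen_top]; exact Subgroup.mem_top g

theorem conj_mem' (h : Gen D d x) {a t : G} (ha : a ∈ D) (ht : t * t = 1) : t * a * t ∈ D := by
  have h1 := h.conj_mem ha t
  rwa [inv_of_sq ht] at h1

theorem sq_mul (h : Gen D d x) {a b : G} (ha : a ∈ D) (hb : b ∈ D) (hab : Commute a b) :
    (a * b) * (a * b) = 1 := by
  calc a * b * (a * b) = a * (b * a) * b := by group
    _ = a * (a * b) * b := by rw [hab.eq]
    _ = (a * a) * (b * b) := by group
    _ = 1 := by rw [h.ot.sq a ha, h.ot.sq b hb, one_mul]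

/-- The alternative for `a ∈ E` and `b` commuting with `d`: `ab ∈ D` or `x` commutes with
`x^{ab}`. -/
theorem mul_mem_or (h : Gen D d x) {a b : G} (ha : a ∈ Cls D d) (hb : b ∈ D) (hbd : Commute b d)
    (hab : a ≠ b) : a * b ∈ D ∨ Commute x (a * b * x * (a * b)) := by
  have hba : Commute b a := h.commute_of hb hbd ha
  have ht := h.sq_mul ha.1 hb hba.symm
  have htE : ∀ e ∈ Cls D d, Commute (a * b) e := fun e he =>
    (h.commute ha he).mul_left (h.commute_of hb hbd he)
  have hxt : a * b * x * (a * b) ∈ D := h.conj_mem' h.hx ht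
  rcases h.ot.tri h.hx ht hxt with h1 | h1 | ⟨c, hc, hct, hcx, htc, -, -⟩
  · exfalso
    have h2 := h.eq_one_of_central ht htE h1
    apply hab
    calc a = a * (b * b) := by rw [h.ot.sq b hb, mul_one]
      _ = (a * b) * b := by group
      _ = b := by rw [h2, one_mul]
  · exact Or.inr h1.2
  · left
    have hca : Commute c a := h.ot.commute_of_commute_mul ha.1 hb hba.symm hab hc hct
    have hcd : Commute c d := (ha.2 c hc).2 hca
    have hcE : ∀ e ∈ Cls D d, Commute c e := fun e he => h.commute_of hc hcd he
    have h2 : (a * b) * c = 1 := by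
      refine h.eq_one_of_central ?_ (fun e he => (htE e he).mul_left (hcE e he)) htc
      calc a * b * c * (a * b * c) = (a * b) * (c * (a * b)) * c := by group
        _ = (a * b) * ((a * b) * c) * c := by rw [hct.eq]
        _ = ((a * b) * (a * b)) * (c * c) := by group
        _ = 1 := by rw [ht, h.ot.sq c hc, one_mul]
    have h3 : a * b = c := by
      calc a * b = (a * b) * (c * c) := by rw [h.ot.sq c hc, mul_one]
        _ = (a * b) * c * c := by group
        _ = c := by rw [h2, one_mul]
    rw [h3]; exact hc

theorem mul_mem_cls (h : Gen D d x) {a b : G} (ha : a ∈ Cls D d) (hb : b ∈ Cls D d)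
    (hab : a * b ∈ D) : a * b ∈ Cls D d :=
  ⟨hab, ha.2.trans (h.ot.line_eqv_mul ha.1 hb.1 (h.commute ha hb) hab)⟩

/-- The bad products. -/
def Bad (D : Set G) (d x : G) : Set G :=
  {z | ∃ a ∈ Cls D d, ∃ b ∈ Cls D d, a ≠ b ∧ z = a * b ∧ Commute x (z * x * z)}

theorem bad_sq (h : Gen D d x) {z : G} (hz : z ∈ Bad D d x) : z * z = 1 := by
  obtain ⟨a, ha, b, hb, -, rfl, -⟩ := hz
  exact h.sq_mul ha.1 hb.1 (h.commute ha hb)

theorem bad_comm (h : Gen D d x) {z : G} (hz : z ∈ Bad D d x) {e : G} (he : e ∈ Cls D d) :
    Commute z e := by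
  obtain ⟨a, ha, b, hb, -, rfl, -⟩ := hz
  exact (h.commute ha he).mul_left (h.commute hb he)

/-- `x z x` normalizes `E` for a bad product `z`. -/
theorem bad_conj_cls (h : Gen D d x) {z : G} (hz : z ∈ Bad D d x) {e : G} (he : e ∈ Cls D d) :
    x * z * x * e * (x * z * x) ∈ Cls D d := by
  have hzz := h.bad_sq hz
  obtain ⟨a, ha, b, hb, hab, rfl, hc⟩ := hz
  have hxx := h.ot.sq x h.hx
  set v : G := x * (a * b) * x with hv
  have hvv : v * v = 1 := by
    calc v * v = x * (a * b) * (x * x) * (a * b) * x := by rw [hv]; group
      _ = x * ((a * b) * (a * b)) * x := by rw [hxx]; group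
      _ = 1 := by rw [hzz, mul_one, hxx]
  have hcv : Commute v (a * b) := (commute_conj_iff.1 hc).symm
  have hcl : ∀ y ∈ D, v * y * v ∈ D := fun y hy => h.conj_mem' hy hvv
  -- members commuting with `d` are those commuting with `a * b`
  have h1 : ∀ y ∈ D, Commute y d ↔ Commute y (a * b) := by
    intro y hy
    constructor
    · intro h2
      exact (h.commute_of hy h2 ha).mul_right (h.commute_of hy h2 hb)
    · intro h2
      exact (ha.2 y hy).2 (h.ot.commute_of_commute_mul ha.1 hb.1 (h.commute ha hb) hab hy h2)
  have h2 : ∀ y ∈ D, Commute y d → Commute (v * y * v) d := by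
    intro y hy hyd
    rw [h1 _ (hcl y hy)]
    have h3 := commute_conj_of_sq hvv ((h1 y hy).1 hyd)
    have e : v * (a * b) * v = a * b := by rw [hcv.eq, mul_assoc, hvv, mul_one]
    rwa [e] at h3
  have h2' : ∀ y ∈ D, Commute y d ↔ Commute (v * y * v) d := by
    intro y hy
    refine ⟨h2 y hy, fun h3 => ?_⟩
    have h4 := h2 _ (hcl y hy) h3
    rwa [conj_conj_of_sq hvv] at h4
  refine ⟨hcl e he.1, ?_⟩
  intro y hy
  constructor
  · intro h3
    have h4 : Commute (v * y * v) e := (he.2 _ (hcl y hy)).1 ((h2' y hy).1 h3)
    have h5 := commute_conj_of_sq hvv h4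
    rwa [conj_conj_of_sq hvv] at h5
  · intro h3
    have h5 := commute_conj_of_sq hvv h3
    rw [conj_conj_of_sq hvv] at h5
    exact (h2' y hy).2 ((he.2 _ (hcl y hy)).2 h5)

/-- For a bad product `z` and `v = x z x`: `e (v e v)` is trivial or bad. -/
theorem mul_conj_bad (h : Gen D d x) {z : G} (hz : z ∈ Bad D d x) {e : G} (he : e ∈ Cls D d)
    (hne : e ≠ x * z * x * e * (x * z * x)) :
    e * (x * z * x * e * (x * z * x)) ∈ Bad D d x := by
  have he' := h.bad_conj_cls hz he
  have hzz := h.bad_sq hz
  obtain ⟨a, ha, b, hb, hab, rfl, hc⟩ := hz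
  have hxx := h.ot.sq x h.hx
  set v : G := x * (a * b) * x with hv
  have hvv : v * v = 1 := by
    calc v * v = x * (a * b) * (x * x) * (a * b) * x := by rw [hv]; group
      _ = x * ((a * b) * (a * b)) * x := by rw [hxx]; group
      _ = 1 := by rw [hzz, mul_one, hxx]
  rcases h.mul_mem_or he he'.1 (h.commute he' ⟨h.hd, Eqv.refl _ _⟩) hne with h1 | h1
  · exfalso
    have h2 := h.mul_mem_cls he he' h1
    -- `e e^v` commutes with `v`
    have h3 : Commute (e * (v * e * v)) v := by
      show e * (v * e * v) * v = v * (e * (v * e * v))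
      have h4 := (h.commute he he').eq
      calc e * (v * e * v) * v = (e * (v * e * v)) * v := rfl
        _ = ((v * e * v) * e) * v := by rw [h4]
        _ = v * (e * (v * e * v)) := by group
    -- `v` is the product of `x a x` and `x b x`
    have hva : v = (x * a * x) * (x * b * x) := by
      calc v = x * a * (x * x) * b * x := by rw [hxx, hv]; group
        _ = _ := by group
    have hxa := h.conj_mem' ha.1 hxx
    have hxb := h.conj_mem' hb.1 hxx
    have h5 : Commute (e * (v * e * v)) (x * a * x) := by
      rw [hva] at h3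
      rw [hva]
      refine h.ot.commute_of_commute_mul hxa hxb (commute_conj_of_sq hxx (h.commute ha hb)) ?_ ?_ h3
      · intro h6
        apply hab
        have := congrArg (fun y => x * y * x) h6
        simpa only [conj_conj_of_sq hxx] using this
      · rw [← hva]; exact h1
    have h6 : Commute (x * a * x) a := by
      have h7 : Commute (x * a * x) d := (h2.2 _ hxa).2 h5.symm
      exact (ha.2 _ hxa).1 h7
    exact h.nc_cls ha (h.ot.commute_of_commute_conj ha.1 h.hx h6.symm).symm
  · exact ⟨e, he, _, he', hne, rfl, h1⟩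

/-- There are no bad products. -/
theorem bad_empty (h : Gen D d x) {z : G} (hz : z ∈ Bad D d x) : False := by
  have hxx := h.ot.sq x h.hx
  set S : Set G := Bad D d x ∪ (fun z => x * z * x) '' Bad D d x with hS
  -- `E` is normalized by `x z x`, and `⟨E⟩ ∩ ⟨E⟩^x` is central
  have hE : ∀ z ∈ Bad D d x, ∀ w ∈ Bad D d x, Commute z (x * w * x) := by
    intro z hz w hw
    -- `u = z (v z v)` centralizes `E` and `x E x`
    have hzz := h.bad_sq hz
    have hww := h.bad_sq hw
    set v : G := x * w * x with hv
    have hvv : v * v = 1 := by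
      calc v * v = x * w * (x * x) * w * x := by rw [hv]; group
        _ = x * (w * w) * x := by rw [hxx]; group
        _ = 1 := by rw [hww, mul_one, hxx]
    set u : G := z * (v * z * v) with hu
    have huE : ∀ e ∈ Cls D d, Commute u e := by
      intro e he
      refine (h.bad_comm hz he).mul_left ?_
      have h1 := h.bad_conj_cls hw he
      have h2 := commute_conj_of_sq hvv (h.bad_comm hz h1)
      rwa [conj_conj_of_sq hvv] at h2
    have huE' : ∀ e ∈ Cls D d, Commute u (x * e * x) := by
      intro e he
      have e1 : u = (z * v * z) * v := by rw [hu]; group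
      rw [e1]
      refine Commute.mul_left ?_ (commute_conj_of_sq hxx (h.bad_comm hw he))
      -- `x z x` normalizes `E`, so `z` normalizes `x E x`
      have h1 := h.bad_conj_cls hz he
      have h2 := h.bad_comm hw h1
      have h3 := commute_conj_of_sq hxx h2
      have e2 : x * (x * z * x * e * (x * z * x)) * x = z * (x * e * x) * z := by
        calc x * (x * z * x * e * (x * z * x)) * x = (x * x) * z * (x * e * x) * z * (x * x) := by
              group
          _ = _ := by rw [hxx]; group
      rw [e2] at h3
      have h4 := commute_conj_of_sq hzz h3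
      rwa [conj_conj_of_sq hzz] at h4
    -- hence `u` is central
    have hux : Commute u x := by
      -- `d x` is a power of `(d x)² = d (x d x)`
      have hdd : d ∈ Cls D d := ⟨h.hd, Eqv.refl _ _⟩
      have hodd := h.ot.odd_of h.hd h.hx (fun h1 => h.nc h1.symm)
      have h1 : Commute u ((d * x) * (d * x)) := by
        have e1 : (d * x) * (d * x) = d * (x * d * x) := by group
        rw [e1]
        exact (huE d hdd).mul_right (huE' d hdd)
      have h2 := commute_of_commute_mul_self hodd h1
      have e3 : x = d * (d * x) := by rw [← mul_assoc, h.ot.sq d h.hd, one_mul]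
      rw [e3]
      exact (huE d hdd).mul_right h2
    have hvzv : (v * z * v) * (v * z * v) = 1 := by
      calc (v * z * v) * (v * z * v) = v * z * (v * v) * z * v := by group
        _ = v * (z * z) * v := by rw [hvv]; group
        _ = 1 := by rw [hzz, mul_one, hvv]
    -- `z` is a product of elements of `E`, and so is `v z v`
    have hcz : Commute z (v * z * v) := by
      obtain ⟨a, ha, b, hb, hab, rfl, hc⟩ := hz
      have h1 := h.bad_conj_cls hw ha
      have h2 := h.bad_conj_cls hw hb
      have e1 : v * (a * b) * v = (v * a * v) * (v * b * v) := by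
        calc v * (a * b) * v = v * a * (v * v) * b * v := by rw [hvv]; group
          _ = _ := by group
      rw [e1]
      exact ((h.commute ha h1).mul_left (h.commute hb h1)).mul_right
        ((h.commute ha h2).mul_left (h.commute hb h2))
    have huu : u * u = 1 := by
      calc u * u = z * ((v * z * v) * z) * (v * z * v) := by rw [hu]; group
        _ = z * (z * (v * z * v)) * (v * z * v) := by rw [hcz.eq]
        _ = (z * z) * ((v * z * v) * (v * z * v)) := by group
        _ = 1 := by rw [hzz, hvzv, one_mul]
    have hu1 := h.eq_one_of_central huu huE hux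
    have h5 : z * v * z * v = 1 := by rw [← hu1, hu]; group
    show z * v = v * z
    calc z * v = (z * v * z * v) * (v⁻¹ * z⁻¹) := by group
      _ = v * z := by rw [h5, inv_of_sq hvv, inv_of_sq hzz, one_mul]
  have hsq : ∀ s ∈ S, s * s = 1 := by
    rintro s (hs | ⟨w, hw, rfl⟩)
    · exact h.bad_sq hs
    · show x * w * x * (x * w * x) = 1
      calc x * w * x * (x * w * x) = x * w * (x * x) * w * x := by group
        _ = x * (w * w) * x := by rw [hxx]; group
        _ = 1 := by rw [h.bad_sq hw, mul_one, hxx]
  have hbb : ∀ z ∈ Bad D d x, ∀ w ∈ Bad D d x, Commute z w := by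
    intro z hz w hw
    obtain ⟨a, ha, b, hb, -, rfl, -⟩ := hw
    exact (h.bad_comm hz ha).mul_right (h.bad_comm hz hb)
  have hcomm : ∀ s ∈ S, ∀ t ∈ S, Commute s t := by
    rintro s (hs | ⟨w, hw, rfl⟩) t (ht | ⟨w', hw', rfl⟩)
    · exact hbb s hs t ht
    · exact hE s hs w' hw'
    · exact (hE t ht w hw).symm
    · exact commute_conj_of_sq hxx (hbb w hw w' hw')
  have hP := isPGroup_of_commuting hsq hcomm
  have hN : (Subgroup.closure S : Subgroup G).Normal := by
    rw [← Subgroup.normalizer_eq_top_iff, eq_top_iff, ← h.gen, Subgroup.closure_le]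
    rintro g (hg | hg)
    · refine mem_normalizer_of_invol (h.ot.sq g hg.1) ?_
      rintro n (hn | ⟨w, hw, rfl⟩)
      · have e1 : g * n * g = n := by
          rw [← (h.bad_comm hn hg).eq, mul_assoc, h.ot.sq g hg.1, mul_one]
        rw [e1]
        exact Subgroup.subset_closure (Or.inl hn)
      · set v : G := x * w * x with hv
        have hvS : v ∈ S := Or.inr ⟨w, hw, rfl⟩
        have hvv := hsq v hvS
        have e1 : g * v * g = (g * (v * g * v)) * v := by
          calc g * v * g = g * v * g * (v * v) := by rw [hvv, mul_one]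
            _ = _ := by group
        show g * v * g ∈ _
        rw [e1]
        refine mul_mem ?_ (Subgroup.subset_closure hvS)
        by_cases hne : g = v * g * v
        · rw [← hne, h.ot.sq g hg.1]; exact one_mem _
        · exact Subgroup.subset_closure (Or.inl (h.mul_conj_bad hw hg hne))
    · rw [Set.mem_singleton_iff] at hg
      rw [hg]
      refine mem_normalizer_of_invol hxx ?_
      rintro n (hn | ⟨w, hw, rfl⟩)
      · exact Subgroup.subset_closure (Or.inr ⟨n, hn, rfl⟩)
      · show x * (x * w * x) * x ∈ _
        rw [conj_conj_of_sq hxx]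
        exact Subgroup.subset_closure (Or.inl hw)
  have h1 := h.o2 _ hN hP
  have h2 : z ∈ Subgroup.closure S := Subgroup.subset_closure (Or.inl hz)
  rw [h1, Subgroup.mem_bot] at h2
  obtain ⟨a, ha, b, hb, hab, rfl, -⟩ := hz
  apply hab
  calc a = a * (b * b) := by rw [h.ot.sq b hb.1, mul_one]
    _ = (a * b) * b := by group
    _ = b := by rw [h2, one_mul]

/-- **Theorem B.** `E ∪ {1}` is closed under multiplication. -/
theorem mul_mem (h : Gen D d x) {a b : G} (ha : a ∈ Cls D d) (hb : b ∈ Cls D d) (hab : a ≠ b) :
    a * b ∈ Cls D d := by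
  refine h.mul_mem_cls ha hb ?_
  rcases h.mul_mem_or ha hb.1 (h.commute hb ⟨h.hd, Eqv.refl _ _⟩) hab with h1 | h1
  · exact h1
  · exact (h.bad_empty ⟨a, ha, b, hb, hab, rfl, h1⟩).elim

/-- **Lemma C.** If `E ≠ {d}`, every member commuting with `d` lies in `E`. -/
theorem eqv_of_commute (h : Gen D d x) {a : G} (ha : a ∈ Cls D d) (had : a ≠ d) {c : G}
    (hc : c ∈ D) (hcd : Commute c d) : c ∈ Cls D d := by
  have hdd : d ∈ Cls D d := ⟨h.hd, Eqv.refl _ _⟩
  by_contra hcon
  -- `c` is different from all elements of `E` and products lie outside `D`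
  have hall : ∀ e ∈ Cls D d, Commute x (e * c * x * (e * c)) := by
    intro e he
    have hne : e ≠ c := by rintro rfl; exact hcon he
    rcases h.mul_mem_or he hc hcd hne with h1 | h1
    · exfalso
      apply hcon
      have hec : Commute e c := (h.commute_of hc hcd he).symm
      exact ⟨hc, he.2.trans (h.ot.line_eqv he.1 hc hec h1)⟩
    · exact h1
  have h1 := h.mul_mem ha hdd had
  refine h.ot.no_two_bad ha.1 h.hd (h.commute ha hdd) h1.1 hc (h.commute_of hc hcd ha) ?_ ?_
    h.hx h.nc (hall a ha) (hall _ h1)
  · rintro rfl; exact hcon ha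
  · intro h2; rw [← h2] at hcon; exact hcon h1

end Gen

end Cfsg.Agent.H738
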